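import Mathlib.Algebra.Lie.CartanExists
import Mathlib.Algebra.Lie.BaseChange
import Mathlib.Algebra.Lie.Engel
import Mathlib.LinearAlgebra.Charpoly.BaseChange
import Mathlib.FieldTheory.IsAlgClosed.AlgebraicClosure

/-!
# Engel subalgebras, rank and regular elements over a field, and their behaviour under extensions
-/

universe u v w

open Module LieAlgebra LieSubalgebra TensorProduct

namespace GrothLib.CartanRel

attribute [local instance 100] LieRing.ofAssociativeRing

/-- An endomorphism of a finite module which is locally nilpotent is nilpotent. -/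
theorem isNilpotent_of_forall {R M : Type*} [CommRing R] [AddCommGroup M] [Module R M] [Module.Finite R M]
    (f : Module.End R M) (h : ∀ v, ∃ n : ℕ, (f ^ n) v = 0) : IsNilpotent f := by
  obtain ⟨s, hs⟩ := (Module.Finite.fg_top (R := R) (M := M))
  choose n hn using h
  refine ⟨s.sup n, LinearMap.ext_on hs fun v hv => ?_⟩
  rw [LinearMap.zero_apply]
  exact Module.End.pow_map_zero_of_le (Finset.le_sup hv) (hn v)

section Poly

variable {A : Type u} [CommRing A] {L : Type v} [LieRing L] [LieAlgebra A L]
  [Module.Free A L] [Module.Finite A L]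

variable (A L) in
/-- The universal characteristic polynomial of `ad`. -/
noncomputable def adPoly : Polynomial (MvPolynomial (Free.ChooseBasisIndex A L) A) :=
  LinearMap.polyCharpoly (ad A L).toLinearMap (Free.chooseBasis A L)

theorem ad_baseChange (B : Type w) [CommRing B] [Algebra A B] :
    (ad B (B ⊗[A] L)).toLinearMap =
      LinearMap.tensorProduct A B L L ∘ₗ (ad A L).toLinearMap.baseChange B := by
  ext x y
  simp [LinearMap.tensorProduct]

theorem adPoly_baseChange (B : Type w) [CommRing B] [Algebra A B] :
    LinearMap.polyCharpoly (ad B (B ⊗[A] L)).toLinearMap (Algebra.TensorProduct.basis B (Free.chooseBasis A L)) =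
      (adPoly A L).map (MvPolynomial.map (algebraMap A B)) := by
  rw [ad_baseChange, adPoly, LinearMap.polyCharpoly_baseChange]

theorem charpoly_ad_baseChange (B : Type w) [CommRing B] [Algebra A B] (x : B ⊗[A] L) :
    (ad B (B ⊗[A] L) x).charpoly = (adPoly A L).map (MvPolynomial.eval₂Hom (algebraMap A B)
      ((Algebra.TensorProduct.basis B (Free.chooseBasis A L)).repr x)) := by
  refine (LinearMap.polyCharpoly_map_eq_charpoly (ad B (B ⊗[A] L)).toLinearMap
    (Algebra.TensorProduct.basis B (Free.chooseBasis A L)) x).symm.trans ?_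
  rw [adPoly_baseChange, Polynomial.map_map]
  congr 1
  refine MvPolynomial.ringHom_ext (fun r => ?_) (fun i => ?_) <;> simp

theorem rank_baseChange (K : Type w) [Field K] [Algebra A K] :
    rank K (K ⊗[A] L) = ((adPoly A L).map (MvPolynomial.map (algebraMap A K))).natTrailingDegree := by
  rw [rank_eq_natTrailingDegree K (K ⊗[A] L) (Algebra.TensorProduct.basis K (Free.chooseBasis A L)),
    adPoly_baseChange]

theorem rank_eq_adPoly [Nontrivial A] : rank A L = (adPoly A L).natTrailingDegree :=
  rank_eq_natTrailingDegree A L (Free.chooseBasis A L)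

/-- If the rank at a residue field is `r`, the coefficients below `r` vanish there. -/
theorem map_coeff_eq_zero (K : Type w) [Field K] [Algebra A K] {j : ℕ} (hj : j < rank K (K ⊗[A] L)) :
    MvPolynomial.map (algebraMap A K) ((adPoly A L).coeff j) = 0 := by
  rw [← Polynomial.coeff_map]
  exact Polynomial.coeff_eq_zero_of_lt_natTrailingDegree (rank_baseChange (A := A) (L := L) K ▸ hj)

end Poly

theorem natTrailingDegree_map_of_injective {R S : Type*} [Semiring R] [Semiring S] (f : R →+* S)
    (hf : Function.Injective f) (p : Polynomial R) : (p.map f).natTrailingDegree = p.natTrailingDegree := by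
  unfold Polynomial.natTrailingDegree Polynomial.trailingDegree
  rw [Polynomial.support_map_of_injective p hf]

section Extend

variable {K : Type u} [Field K] {V : Type v} [LieRing V] [LieAlgebra K V] [Module.Finite K V]
  (K' : Type w) [Field K'] [Algebra K K']

theorem rank_extend : rank K' (K' ⊗[K] V) = rank K V := by
  rw [rank_baseChange, rank_eq_adPoly,
    natTrailingDegree_map_of_injective _ (MvPolynomial.map_injective _ (algebraMap K K').injective)]

theorem finrank_engel_extend (x : V) :
    finrank K' (engel K' ((1 : K') ⊗ₜ[K] x)) = finrank K (engel K x) := by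
  rw [finrank_engel, finrank_engel, LieAlgebra.ad, LieAlgebra.ad, LieModule.toEnd_baseChange,
    LinearMap.charpoly_baseChange, natTrailingDegree_map_of_injective _ (algebraMap K K').injective]

theorem mem_engel_extend {x y : V} :
    (1 : K') ⊗ₜ[K] y ∈ engel K' ((1 : K') ⊗ₜ[K] x) ↔ y ∈ engel K x := by
  simp only [mem_engel_iff, LieAlgebra.ad, LieModule.toEnd_baseChange, ← LinearMap.baseChange_pow,
    LinearMap.baseChange_tmul]
  refine exists_congr fun n => ⟨fun h => ?_, fun h => by rw [h, TensorProduct.tmul_zero]⟩
  exact Module.Flat.tensorProduct_mk_injective (R := K) (M := V) (S := K')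
    (h.trans (map_zero ((TensorProduct.mk K K' V) 1)).symm)

end Extend

section Equiv

variable {K : Type u} [Field K] {V : Type v} {W : Type w} [LieRing V] [LieAlgebra K V]
  [LieRing W] [LieAlgebra K W] [Module.Finite K V] [Module.Finite K W] (e : V ≃ₗ⁅K⁆ W)

omit [Module.Finite K V] [Module.Finite K W] in
theorem mem_engel_equiv {x y : V} : e y ∈ engel K (e x) ↔ y ∈ engel K x := by
  have h : ∀ (n : ℕ) (y : V), ((ad K W (e x)) ^ n) (e y) = e (((ad K V x) ^ n) y) := fun n => by
    induction n with
    | zero => simp
    | succ n ih => intro y; rw [pow_succ, pow_succ, Module.End.mul_apply, Module.End.mul_apply, ← ih]; simp [LieEquiv.map_lie]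
  simp only [mem_engel_iff, h]
  exact exists_congr fun n => e.toLinearEquiv.map_eq_zero_iff

omit [Module.Finite K V] [Module.Finite K W] in
theorem engel_equiv (x : V) :
    (engel K (e x)).toSubmodule = (engel K x).toSubmodule.map e.toLinearEquiv.toLinearMap := by
  ext w
  refine ⟨fun hw => ⟨e.symm w, ?_, e.apply_symm_apply w⟩, ?_⟩
  · exact (mem_engel_equiv e).1 (by rwa [e.apply_symm_apply])
  · rintro ⟨y, hy, rfl⟩
    exact (mem_engel_equiv e).2 hy

omit [Module.Finite K V] [Module.Finite K W] in
theorem finrank_engel_equiv (x : V) : finrank K (engel K (e x)) = finrank K (engel K x) :=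
  ((LinearEquiv.ofEq _ _ (engel_equiv e x)).finrank_eq).trans
    ((engel K x).toSubmodule.equivMapOfInjective _ e.toLinearEquiv.injective).finrank_eq.symm

end Equiv

section EquivRank

variable {K : Type u} [Field K] {V : Type v} {W : Type v} [LieRing V] [LieAlgebra K V]
  [LieRing W] [LieAlgebra K W] [Module.Finite K V] [Module.Finite K W]

theorem rank_le_of_infinite [Infinite K] (e : V ≃ₗ⁅K⁆ W) : rank K W ≤ rank K V := by
  obtain ⟨x, hx⟩ := exists_isRegular K V
  rw [isRegular_iff_finrank_engel_eq_rank] at hx
  rw [← hx, ← finrank_engel_equiv e x]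
  exact rank_le_finrank_engel K (e x)

theorem rank_equiv (e : V ≃ₗ⁅K⁆ W) : rank K V = rank K W := by
  let K' := AlgebraicClosure K
  let e' : K' ⊗[K] V ≃ₗ⁅K'⁆ K' ⊗[K] W :=
    { TensorProduct.AlgebraTensorModule.congr (LinearEquiv.refl K' K') e.toLinearEquiv with
      map_lie' := fun {x y} => by
        induction x using TensorProduct.induction_on with
        | zero => simp
        | tmul a v =>
          induction y using TensorProduct.induction_on with
          | zero => simp
          | tmul b w =>
            exact congrArg ((a * b) ⊗ₜ[K] ·) (LieHom.map_lie e.toLieHom v w)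
          | add p q hp hq => simp_all
        | add p q hp hq => simp_all }
  rw [← rank_extend (V := V) K', ← rank_extend (V := W) K']
  exact le_antisymm (rank_le_of_infinite e'.symm) (rank_le_of_infinite e')

theorem isRegular_equiv (e : V ≃ₗ⁅K⁆ W) (x : V) : IsRegular K (e x) ↔ IsRegular K x := by
  rw [isRegular_iff_finrank_engel_eq_rank, isRegular_iff_finrank_engel_eq_rank, finrank_engel_equiv,
    rank_equiv e]

end EquivRank

section Cartan

variable {K : Type u} [Field K] {V : Type v} [LieRing V] [LieAlgebra K V] [Module.Finite K V]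

theorem le_engel_of_isNilpotent (U : LieSubalgebra K V) [LieRing.IsNilpotent U] {a : V} (ha : a ∈ U) :
    U ≤ engel K a := by
  intro y hy
  obtain ⟨n, hn⟩ := LieModule.isNilpotent_toEnd_of_isNilpotent K U U (⟨a, ha⟩ : U)
  rw [mem_engel_iff]
  refine ⟨n, ?_⟩
  rw [← LieSubalgebra.coe_ad_pow (R := K) (H := U) (x := ⟨a, ha⟩) (y := ⟨y, hy⟩)]
  exact congrArg Subtype.val (LinearMap.congr_fun hn ⟨y, hy⟩)

theorem isNilpotent_engel_of_finrank_le_card (h : finrank K V ≤ Cardinal.mk K) {a : V}
    (ha : IsRegular K a) : LieRing.IsNilpotent (engel K a) := by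
  refine isNilpotent_of_forall_le_engel _ fun y hy => ?_
  set Ex : {engel K z | z ∈ engel K a} := ⟨engel K a, a, self_mem_engel _ _, rfl⟩
  suffices IsBot Ex from @this ⟨engel K y, y, hy, rfl⟩
  apply engel_isBot_of_isMin h (engel K a) Ex le_rfl
  rintro ⟨_, z, hz, rfl⟩ hza
  suffices finrank K (engel K a) ≤ finrank K (engel K z) by
    suffices engel K z = engel K a from this.ge
    exact toSubmodule_injective (Submodule.eq_of_le_of_finrank_le hza this)
  rw [(isRegular_iff_finrank_engel_eq_rank K a).mp ha]
  exact rank_le_finrank_engel K z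

theorem isRegular_extend (K' : Type w) [Field K'] [Algebra K K'] (x : V) :
    IsRegular K' ((1 : K') ⊗ₜ[K] x) ↔ IsRegular K x := by
  rw [isRegular_iff_finrank_engel_eq_rank, isRegular_iff_finrank_engel_eq_rank, finrank_engel_extend,
    rank_extend]

theorem isNilpotent_engel {a : V} (ha : IsRegular K a) : LieRing.IsNilpotent (engel K a) := by
  let K' := AlgebraicClosure K
  haveI hnil := isNilpotent_engel_of_finrank_le_card
    (Cardinal.natCast_le_aleph0.trans (Cardinal.infinite_iff.mp inferInstance))
    ((isRegular_extend K' a).2 ha)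
  refine isNilpotent_of_forall_le_engel _ fun y hy z hz => ?_
  exact (mem_engel_extend K').1 (le_engel_of_isNilpotent (engel K' ((1 : K') ⊗ₜ[K] a))
    ((mem_engel_extend K').2 hy) ((mem_engel_extend K').2 hz))

/-- A nilpotent subalgebra of dimension the rank containing a regular element is its Engel subalgebra. -/
theorem eq_engel (U : LieSubalgebra K V) [LieRing.IsNilpotent U] (hrk : finrank K U = rank K V) {a : V}
    (haU : a ∈ U) (ha : IsRegular K a) : U = engel K a := by
  refine toSubmodule_injective (Submodule.eq_of_le_of_finrank_le (le_engel_of_isNilpotent U haU) ?_)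
  exact ((isRegular_iff_finrank_engel_eq_rank K a).mp ha).le.trans hrk.ge

/-- Over an infinite field a nilpotent self-normalizing subalgebra of dimension the rank contains a
regular element. -/
theorem exists_isRegular_mem [Infinite K] (U : LieSubalgebra K V) [LieRing.IsNilpotent U]
    (hnorm : ∀ x, (∀ y ∈ U, ⁅x, y⁆ ∈ U) → x ∈ U) (hrk : finrank K U = rank K V) :
    ∃ a ∈ U, IsRegular K a := by
  classical
  have hex : ∃ n, ∃ z ∈ U, finrank K (engel K z) = n := ⟨_, 0, U.zero_mem, rfl⟩
  obtain ⟨x, hxU, hx⟩ := Nat.find_spec hex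
  refine ⟨x, hxU, ?_⟩
  rw [isRegular_iff_finrank_engel_eq_rank, ← hrk]
  set Ex : {engel K z | z ∈ U} := ⟨engel K x, x, hxU, rfl⟩
  have hUle : U ≤ engel K x := le_engel_of_isNilpotent U hxU
  have hbot : IsBot Ex := by
    apply engel_isBot_of_isMin (Cardinal.natCast_le_aleph0.trans (Cardinal.infinite_iff.mp inferInstance))
      U Ex hUle
    rintro ⟨_, z, hz, rfl⟩ hzx
    suffices finrank K (engel K x) ≤ finrank K (engel K z) by
      suffices engel K z = engel K x from this.ge
      exact toSubmodule_injective (Submodule.eq_of_le_of_finrank_le hzx this)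
    rw [hx]
    exact Nat.find_min' hex ⟨z, hz, rfl⟩
  by_contra hne
  let W : LieSubmodule K U V :=
    { (engel K x).toSubmodule with lie_mem := fun {u m} hm => (engel K x).lie_mem (hUle u.2) hm }
  let N : LieSubmodule K U W := (U.toLieSubmodule).comap W.incl
  have hN : N ≠ ⊤ := fun hN => hne (by
    have hxU' : engel K x ≤ U := fun y hy =>
      show (⟨y, hy⟩ : W) ∈ N from hN ▸ LieSubmodule.mem_top _
    rw [le_antisymm hxU' hUle])
  haveI : Nontrivial (W ⧸ N) :=
    Submodule.Quotient.nontrivial_iff.mpr (fun h => hN (LieSubmodule.toSubmodule_injective h))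
  haveI : LieModule.IsNilpotent U (W ⧸ N) := by
    rw [LieModule.isNilpotent_iff_forall' (R := K)]
    intro u
    refine isNilpotent_of_forall _ fun q => ?_
    obtain ⟨w, rfl⟩ := LieSubmodule.Quotient.surjective_mk' N q
    obtain ⟨n, hn⟩ := (mem_engel_iff K (u : V) (w : V)).1 (@hbot ⟨engel K (u : V), u, u.2, rfl⟩ w w.2)
    refine ⟨n, ?_⟩
    have h : ∀ (n : ℕ) (w : W), ((LieModule.toEnd K U (W ⧸ N) u) ^ n) (LieSubmodule.Quotient.mk' N w) =
        LieSubmodule.Quotient.mk' N (((LieModule.toEnd K U W u) ^ n) w) := fun n => by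
      induction n with
      | zero => intro w; rfl
      | succ n ih => intro w; rw [pow_succ, pow_succ, Module.End.mul_apply, Module.End.mul_apply, ← ih]; rfl
    have h' : ∀ (n : ℕ) (w : W), ((((LieModule.toEnd K U W u) ^ n) w : W) : V) = ((ad K V (u : V)) ^ n) w :=
      fun n => by
      induction n with
      | zero => intro w; rfl
      | succ n ih => intro w; rw [pow_succ, pow_succ, Module.End.mul_apply, Module.End.mul_apply, ih]; rfl
    rw [h, show ((LieModule.toEnd K U W u) ^ n) w = 0 from Subtype.ext ((h' n w).trans hn), map_zero]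
  haveI := LieModule.nontrivial_max_triv_of_isNilpotent K U (W ⧸ N)
  obtain ⟨⟨m, hm⟩, hm0⟩ := exists_ne (0 : LieModule.maxTrivSubmodule K U (W ⧸ N))
  obtain ⟨w, rfl⟩ := LieSubmodule.Quotient.surjective_mk' N m
  refine hm0 (Subtype.ext ((LieSubmodule.Quotient.mk_eq_zero').mpr ?_))
  refine hnorm _ fun y hy => ?_
  have h1 : LieSubmodule.Quotient.mk' N ⁅(⟨y, hy⟩ : U), w⁆ = 0 := by
    rw [LieModuleHom.map_lie]
    exact hm ⟨y, hy⟩
  rw [← lie_skew]
  exact neg_mem (s := U) ((LieSubmodule.Quotient.mk_eq_zero').1 h1)

end Cartan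

end GrothLib.CartanRel
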