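import Groth.Prelude.Def_W4sga3xiixivxvCartan
import Groth.Agent.Lib.CartanRel.Field
import Mathlib.RingTheory.LocalRing.Module
import Mathlib.RingTheory.LocalRing.ResidueField.Ideal
import Mathlib.RingTheory.Localization.BaseChange
import Mathlib.RingTheory.OrzechProperty
import Mathlib.RingTheory.Noetherian.Nilpotent
import Mathlib.RingTheory.Spectrum.Prime.RingHom
import Mathlib.LinearAlgebra.TensorProduct.RightExactness

/-!
# Fibres of Lie algebras and of endomorphisms of modules
-/

universe u

open Module LieAlgebra LieSubalgebra TensorProduct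

namespace GrothLib.CartanRel

attribute [local instance 100] LieRing.ofAssociativeRing

section Tower

variable {A : Type u} [CommRing A] {L : Type u} [LieRing L] [LieAlgebra A L]
  (B K : Type u) [CommRing B] [CommRing K] [Algebra A B] [Algebra B K] [Algebra A K] [IsScalarTower A B K]

/-- Extending scalars in two steps. -/
noncomputable def cancel : K ⊗[B] (B ⊗[A] L) ≃ₗ⁅K⁆ K ⊗[A] L :=
  { TensorProduct.AlgebraTensorModule.cancelBaseChange A B K K L with
    map_lie' := fun {x y} => by
      induction x using TensorProduct.induction_on with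
      | zero => simp
      | add p q hp hq => simp_all
      | tmul a s =>
        induction y using TensorProduct.induction_on with
        | zero => simp
        | add p q hp hq => simp_all
        | tmul b t =>
          induction s using TensorProduct.induction_on with
          | zero => simp
          | add p q hp hq => simp_all [TensorProduct.tmul_add]
          | tmul c x =>
            induction t using TensorProduct.induction_on with
            | zero => simp
            | add p q hp hq => simp_all [TensorProduct.tmul_add]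
            | tmul d y => simp [mul_smul_comm, smul_mul_assoc, smul_smul, mul_comm c d] }

theorem cancel_tmul (t : K) (s : B) (x : L) :
    cancel B K (t ⊗ₜ[B] (s ⊗ₜ[A] x)) = (s • t) ⊗ₜ[A] x :=
  TensorProduct.AlgebraTensorModule.cancelBaseChange_tmul ..

/-- The map to a further extension of scalars. -/
noncomputable def push : B ⊗[A] L →ₗ⁅A⁆ K ⊗[A] L :=
  LieAlgebra.ExtendScalars.map (IsScalarTower.toAlgHom A B K) (LieHom.id : L →ₗ⁅A⁆ L)

theorem cancel_one_tmul (x : B ⊗[A] L) :
    cancel (A := A) B K ((1 : K) ⊗ₜ x) = push (A := A) B K x := by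
  induction x using TensorProduct.induction_on with
  | zero => simp
  | add p q hp hq => simp only [TensorProduct.tmul_add, map_add, hp, hq]
  | tmul s x => rw [cancel_tmul, Algebra.smul_def, mul_one, push]; simp

end Tower

section Rank

variable {A : Type u} [CommRing A] {L : Type u} [LieRing L] [LieAlgebra A L] [Module.Finite A L]

theorem rank_tower (K K' : Type u) [Field K] [Field K'] [Algebra A K] [Algebra K K'] [Algebra A K']
    [IsScalarTower A K K'] : rank K' (K' ⊗[A] L) = rank K (K ⊗[A] L) :=
  (rank_equiv (cancel (A := A) (L := L) K K')).symm.trans (rank_extend K')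

theorem isRegular_tower (K K' : Type u) [Field K] [Field K'] [Algebra A K] [Algebra K K'] [Algebra A K']
    [IsScalarTower A K K'] (x : K ⊗[A] L) :
    IsRegular K' (push (A := A) K K' x) ↔ IsRegular K x := by
  rw [← cancel_one_tmul, isRegular_equiv, isRegular_extend]

theorem finrank_engel_tower (K K' : Type u) [Field K] [Field K'] [Algebra A K] [Algebra K K'] [Algebra A K']
    [IsScalarTower A K K'] (x : K ⊗[A] L) :
    finrank K' (engel K' (push (A := A) K K' x)) = finrank K (engel K x) := by
  rw [← cancel_one_tmul, finrank_engel_equiv, finrank_engel_extend]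

variable (L) in
/-- The rank of the fibre at a prime. -/
noncomputable def rk (p : PrimeSpectrum A) : ℕ :=
  rank p.asIdeal.ResidueField (p.asIdeal.ResidueField ⊗[A] L)

/-- The embedding of a residue field. -/
noncomputable def resMap (p : PrimeSpectrum A) (K : Type u) [Field K] [Algebra A K]
    (hK : ∀ x, algebraMap A K x = 0 ↔ x ∈ p.asIdeal) : p.asIdeal.ResidueField →ₐ[A] K :=
  Ideal.ResidueField.liftₐ p.asIdeal (Algebra.ofId A K) (fun x hx => (hK x).2 hx)
    fun x hx => IsUnit.mk0 _ fun h => hx ((hK x).1 h)

theorem rank_eq_rk (p : PrimeSpectrum A) (K : Type u) [Field K] [Algebra A K]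
    (hK : ∀ x, algebraMap A K x = 0 ↔ x ∈ p.asIdeal) : rank K (K ⊗[A] L) = rk L p := by
  letI := (resMap p K hK).toRingHom.toAlgebra
  haveI : IsScalarTower A p.asIdeal.ResidueField K :=
    IsScalarTower.of_algebraMap_eq fun x => ((resMap p K hK).commutes x).symm
  exact rank_tower p.asIdeal.ResidueField K

theorem isRegular_iff_of_ker (p : PrimeSpectrum A) (K : Type u) [Field K] [Algebra A K]
    (hK : ∀ x, algebraMap A K x = 0 ↔ x ∈ p.asIdeal) (a : L) :
    IsRegular K ((1 : K) ⊗ₜ[A] a) ↔
      IsRegular p.asIdeal.ResidueField ((1 : p.asIdeal.ResidueField) ⊗ₜ[A] a) := by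
  letI := (resMap p K hK).toRingHom.toAlgebra
  haveI : IsScalarTower A p.asIdeal.ResidueField K :=
    IsScalarTower.of_algebraMap_eq fun x => ((resMap p K hK).commutes x).symm
  rw [← isRegular_tower p.asIdeal.ResidueField K ((1 : p.asIdeal.ResidueField) ⊗ₜ[A] a),
    ← cancel_one_tmul, cancel_tmul, one_smul]

variable {A' : Type u} [CommRing A'] [Algebra A A']

theorem comap_algebraMap_eq_zero (q : PrimeSpectrum A') (x : A) :
    algebraMap A q.asIdeal.ResidueField x = 0 ↔ x ∈ (q.comap (algebraMap A A')).asIdeal := by
  rw [IsScalarTower.algebraMap_apply A A' q.asIdeal.ResidueField, Ideal.algebraMap_residueField_eq_zero]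
  rfl

theorem rk_baseChange (q : PrimeSpectrum A') :
    rk (A' ⊗[A] L) q = rk L (q.comap (algebraMap A A')) :=
  (rank_equiv (cancel (A := A) (L := L) A' q.asIdeal.ResidueField)).trans
    (rank_eq_rk _ _ (comap_algebraMap_eq_zero q))

theorem isRegular_baseChange (q : PrimeSpectrum A') (a : L) :
    IsRegular q.asIdeal.ResidueField
        ((1 : q.asIdeal.ResidueField) ⊗ₜ[A'] ((1 : A') ⊗ₜ[A] a)) ↔
      IsRegular (q.comap (algebraMap A A')).asIdeal.ResidueField
        ((1 : (q.comap (algebraMap A A')).asIdeal.ResidueField) ⊗ₜ[A] a) := by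
  rw [← isRegular_equiv (cancel (A := A) (L := L) A' q.asIdeal.ResidueField), cancel_tmul, one_smul]
  exact isRegular_iff_of_ker _ _ (comap_algebraMap_eq_zero q) a

end Rank

section End

variable {A : Type u} [CommRing A] {M : Type u} [AddCommGroup M] [Module A M]

/-- An endomorphism of a finite projective module which is nilpotent on every fibre is nilpotent. -/
theorem isNilpotent_of_fibres [Module.Finite A M] [Module.Projective A M] (f : Module.End A M)
    (h : ∀ p : PrimeSpectrum A, IsNilpotent (f.baseChange p.asIdeal.ResidueField)) : IsNilpotent f := by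
  classical
  obtain ⟨N, π, hπ⟩ := Module.Finite.exists_fin' A M
  obtain ⟨σ, hσ⟩ := Module.projective_lifting_property π LinearMap.id hπ
  have hcoord : ∀ m i, σ ((f ^ N) m) i ∈ nilradical A := by
    intro m i
    rw [nilradical_eq_sInf, Ideal.mem_sInf]
    intro P hP
    haveI : P.IsPrime := hP
    set κ := P.ResidueField
    haveI : Nontrivial A := nontrivial_of_ne 0 1 fun h01 => hP.ne_top ((Ideal.eq_top_iff_one P).2 (h01 ▸ P.zero_mem))
    have hfin : finrank κ (κ ⊗[A] M) ≤ N := by
      refine le_trans (LinearMap.finrank_le_finrank_of_surjective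
        (f := π.baseChange κ) (LinearMap.lTensor_surjective κ hπ)) ?_
      exact (Module.finrank_baseChange (R := κ) (S := A) (M' := Fin N → A)).trans_le (by simp)
    have hz : (f.baseChange κ) ^ N = 0 := by
      obtain ⟨n, hn⟩ := h ⟨P, hP⟩
      refine LinearMap.ext fun v => ?_
      have e : f.baseChange κ - (0 : κ) • 1 = f.baseChange κ := by
        rw [zero_smul]; exact sub_zero (f.baseChange κ)
      have h1 : v ∈ Module.End.maxGenEigenspace (f.baseChange κ) 0 :=
        (Module.End.mem_maxGenEigenspace _ _ _).2 ⟨n, by rw [e]; exact LinearMap.congr_fun hn v⟩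
      rw [Module.End.maxGenEigenspace_eq_genEigenspace_finrank, Module.End.mem_genEigenspace_nat, LinearMap.mem_ker, e] at h1
      rw [LinearMap.zero_apply]
      exact Module.End.pow_map_zero_of_le hfin h1
    have h2 : (f ^ N).baseChange κ ((1 : κ) ⊗ₜ[A] m) = 0 := by rw [LinearMap.baseChange_pow, hz]; rfl
    rw [LinearMap.baseChange_tmul] at h2
    have h3 := congrArg (((LinearMap.proj i).comp σ).baseChange κ) h2
    rw [LinearMap.baseChange_tmul, map_zero] at h3
    have h4 := congrArg (TensorProduct.rid A κ) h3
    rw [TensorProduct.rid_tmul, map_zero, Algebra.smul_def, mul_one] at h4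
    exact Ideal.algebraMap_residueField_eq_zero.1 h4
  let I : Ideal A := Ideal.span (Set.range fun q : Fin N × Fin N => σ ((f ^ N) (π (Pi.single q.1 1))) q.2)
  have hI : IsNilpotent I := by
    rw [Ideal.FG.isNilpotent_iff_le_nilradical
      ⟨Finset.univ.image fun q : Fin N × Fin N => σ ((f ^ N) (π (Pi.single q.1 1))) q.2,
        by rw [Finset.coe_image, Finset.coe_univ, Set.image_univ]⟩]
    exact Ideal.span_le.mpr (by rintro _ ⟨q, rfl⟩; exact hcoord _ _)
  have hM : ∀ m, (f ^ N) m ∈ (I • ⊤ : Submodule A M) := fun m => by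
    obtain ⟨v, rfl⟩ := hπ m
    have eσ : π (σ ((f ^ N) (π v))) = (f ^ N) (π v) := LinearMap.congr_fun hσ _
    rw [← eσ, pi_eq_sum_univ' (σ ((f ^ N) (π v))),
      map_sum]
    refine Submodule.sum_mem _ fun i _ => ?_
    rw [map_smul]
    refine Submodule.smul_mem_smul ?_ trivial
    rw [pi_eq_sum_univ' v, map_sum, map_sum, map_sum, Finset.sum_apply]
    refine Ideal.sum_mem _ fun j _ => ?_
    rw [map_smul, map_smul, map_smul, Pi.smul_apply, smul_eq_mul]
    exact I.mul_mem_left _ (Ideal.subset_span ⟨(j, i), rfl⟩)
  have hpow : ∀ j m, (((f ^ N) ^ j)) m ∈ (I ^ j • ⊤ : Submodule A M) := fun j => by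
    induction j with
    | zero => intro m; simp
    | succ j ih =>
      intro m
      rw [pow_succ' (f ^ N), Module.End.mul_apply]
      refine Submodule.smul_induction_on (ih m) (fun r hr x _ => ?_) fun x y hx hy => ?_
      · rw [map_smul, pow_succ, Submodule.mul_smul]
        exact Submodule.smul_mem_smul hr (hM x)
      · rw [map_add]; exact add_mem hx hy
  obtain ⟨j, hj⟩ := hI
  refine ⟨N * j, LinearMap.ext fun m => ?_⟩
  rw [pow_mul]
  have := hpow j m
  rw [hj] at this
  simpa using this

variable [Module.Finite A M] (f : Module.End A M) (q : PrimeSpectrum A)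

/-- A vector killed by a map which is surjective on the fibre at `q` is killed by some `s ∉ q`. -/
theorem exists_smul_eq_zero (hf : Function.Surjective (f.baseChange q.asIdeal.ResidueField)) {x : M}
    (hx : f x = 0) : ∃ s ∉ q.asIdeal, s • x = 0 := by
  set C := M ⧸ LinearMap.range f
  have hq : q ∉ Module.support A C := by
    rw [Module.mem_support_iff_nontrivial_residueField_tensorProduct, not_nontrivial_iff_subsingleton]
    refine subsingleton_of_forall_eq 0 fun z => ?_
    obtain ⟨y, rfl⟩ := LinearMap.lTensor_surjective q.asIdeal.ResidueField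
      (Submodule.mkQ_surjective (LinearMap.range f)) z
    obtain ⟨w, rfl⟩ := hf y
    induction w using TensorProduct.induction_on with
    | zero => simp
    | tmul c m =>
      rw [LinearMap.baseChange_tmul, LinearMap.lTensor_tmul, Submodule.mkQ_apply,
        (Submodule.Quotient.mk_eq_zero _).mpr (LinearMap.mem_range_self f m), TensorProduct.tmul_zero]
    | add a b ha hb => rw [map_add, map_add, ha, hb, add_zero]
  rw [Module.mem_support_iff_of_finite, SetLike.not_le_iff_exists] at hq
  obtain ⟨s, hs, hsq⟩ := hq
  rw [Module.mem_annihilator] at hs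
  have hrange : ∀ y, ∃ z, f z = s • y := fun y => by
    have := hs (Submodule.Quotient.mk y)
    rwa [← Submodule.Quotient.mk_smul, Submodule.Quotient.mk_eq_zero] at this
  let g := LocalizedModule.map (Submonoid.powers s) f
  have hg : Function.Surjective g := fun y => by
    induction y using LocalizedModule.induction_on with
    | h y t =>
      obtain ⟨z, hz⟩ := hrange y
      refine ⟨LocalizedModule.mk z (⟨s, Submonoid.mem_powers s⟩ * t), ?_⟩
      rw [LocalizedModule.map_mk, hz]
      exact LocalizedModule.mk_cancel_common_left ⟨s, Submonoid.mem_powers s⟩ t y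
  haveI : Module.Finite (Localization (Submonoid.powers s)) (LocalizedModule (Submonoid.powers s) M) :=
    Module.Finite.of_isLocalizedModule (Submonoid.powers s) (LocalizedModule.mkLinearMap (Submonoid.powers s) M)
  have hinj := OrzechProperty.injective_of_surjective_endomorphism g hg
  have h0 : LocalizedModule.mk x (1 : Submonoid.powers s) = 0 := hinj (by
    rw [LocalizedModule.map_mk, hx, map_zero, LocalizedModule.zero_mk])
  obtain ⟨c, hc⟩ := LocalizedModule.mk_eq.mp (h0.trans (LocalizedModule.zero_mk 1).symm)
  obtain ⟨n, hn⟩ := c.2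
  refine ⟨s ^ n, fun h => hsq (q.2.mem_of_pow_mem n h), ?_⟩
  simp only [smul_zero, one_smul] at hc
  rw [show s ^ n = (c : A) from hn]
  exact hc

omit [Module.Finite A M] in
theorem eq_zero_of_forall_smul {x : M} (h : ∀ P : PrimeSpectrum A, ∃ s ∉ P.asIdeal, s • x = 0) : x = 0 := by
  by_contra hx
  have htop : (Submodule.span A {x}).annihilator ≠ ⊤ := fun ht => hx (by
    have := Submodule.mem_annihilator.1 (ht.symm ▸ Submodule.mem_top : (1 : A) ∈ _) x
      (Submodule.mem_span_singleton_self x)
    simpa using this)
  obtain ⟨m, hm, hle⟩ := Ideal.exists_le_maximal _ htop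
  obtain ⟨s, hs, hsx⟩ := h ⟨m, hm.isPrime⟩
  exact hs (hle ((Submodule.mem_annihilator_span_singleton x s).2 hsx))

omit [Module.Finite A M] in
theorem exists_pow_smul_eq_zero {x : M} {g : A}
    (h : ∀ P : PrimeSpectrum A, g ∉ P.asIdeal → ∃ s ∉ P.asIdeal, s • x = 0) : ∃ n : ℕ, g ^ n • x = 0 := by
  suffices g ∈ (Submodule.span A {x}).annihilator.radical by
    obtain ⟨n, hn⟩ := this
    exact ⟨n, (Submodule.mem_annihilator_span_singleton x _).1 hn⟩
  rw [Ideal.radical_eq_sInf, Ideal.mem_sInf]
  rintro P ⟨hle, hP⟩
  by_contra hg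
  obtain ⟨s, hs, hsx⟩ := h ⟨P, hP⟩ hg
  exact hs (hle ((Submodule.mem_annihilator_span_singleton x s).2 hsx))

theorem bijective_of_fibres (hf : ∀ p : PrimeSpectrum A, Function.Surjective (f.baseChange p.asIdeal.ResidueField)) :
    Function.Bijective f := by
  refine OrzechProperty.bijective_of_surjective_endomorphism f fun y => ?_
  refine (Submodule.Quotient.mk_eq_zero (LinearMap.range f) (x := y)).1 (eq_zero_of_forall_smul (A := A) fun P => ?_)
  have hP : P ∉ Module.support A (M ⧸ LinearMap.range f) := by
    rw [Module.mem_support_iff_nontrivial_residueField_tensorProduct, not_nontrivial_iff_subsingleton]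
    refine subsingleton_of_forall_eq 0 fun z => ?_
    obtain ⟨y, rfl⟩ := LinearMap.lTensor_surjective P.asIdeal.ResidueField
      (Submodule.mkQ_surjective (LinearMap.range f)) z
    obtain ⟨w, rfl⟩ := hf P y
    induction w using TensorProduct.induction_on with
    | zero => simp
    | tmul c m =>
      rw [LinearMap.baseChange_tmul, LinearMap.lTensor_tmul, Submodule.mkQ_apply,
        (Submodule.Quotient.mk_eq_zero _).mpr (LinearMap.mem_range_self f m), TensorProduct.tmul_zero]
    | add a b ha hb => rw [map_add, map_add, ha, hb, add_zero]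
  rw [Module.mem_support_iff_of_finite, SetLike.not_le_iff_exists] at hP
  obtain ⟨s, hs, hsP⟩ := hP
  exact ⟨s, hsP, Module.mem_annihilator.1 hs _⟩

end End

end GrothLib.CartanRel
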