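import Mathlib.RingTheory.LocalRing.Module
import Mathlib.RingTheory.LocalRing.ResidueField.Ideal

/-!
# Vanishing in a fibre
-/

universe u

open TensorProduct

namespace GrothLib.CartanRel

/-- An element vanishing in the fibre at `J` is in `J M` up to a factor outside `J`. -/
theorem exists_smul_mem_of_one_tmul_eq_zero {A M : Type u} [CommRing A] [AddCommGroup M] [Module A M]
    (J : Ideal A) [J.IsPrime] (z : M) (h : (1 : J.ResidueField) ⊗ₜ[A] z = 0) :
    ∃ s, s ∉ J ∧ s • z ∈ J • (⊤ : Submodule A M) := by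
  haveI : IsLocalizedModule (nonZeroDivisors (A ⧸ J))
      (TensorProduct.mk (A ⧸ J) J.ResidueField ((A ⧸ J) ⊗[A] M) 1) := inferInstance
  have h1 : (1 : J.ResidueField) ⊗ₜ[A ⧸ J] ((1 : A ⧸ J) ⊗ₜ[A] z) = 0 :=
    (TensorProduct.AlgebraTensorModule.cancelBaseChange A (A ⧸ J) J.ResidueField J.ResidueField M).injective
      (by rw [TensorProduct.AlgebraTensorModule.cancelBaseChange_tmul, one_smul, h, map_zero])
  obtain ⟨⟨c, hc⟩, hcz⟩ := (IsLocalizedModule.eq_zero_iff (nonZeroDivisors (A ⧸ J))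
    (TensorProduct.mk (A ⧸ J) J.ResidueField ((A ⧸ J) ⊗[A] M) 1)).1 h1
  obtain ⟨s, rfl⟩ := Ideal.Quotient.mk_surjective c
  refine ⟨s, fun hs => nonZeroDivisors.ne_zero hc (Ideal.Quotient.eq_zero_iff_mem.2 hs), ?_⟩
  have h2 : TensorProduct.quotTensorEquivQuotSMul M J (Ideal.Quotient.mk J s ⊗ₜ[A] z) = 0 := by
    have e : (Ideal.Quotient.mk J s) ⊗ₜ[A] z = 0 := by
      have h3 : Ideal.Quotient.mk J s • ((1 : A ⧸ J) ⊗ₜ[A] z) = 0 := hcz
      rwa [TensorProduct.smul_tmul', smul_eq_mul, mul_one] at h3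
    rw [e, map_zero]
  rw [TensorProduct.quotTensorEquivQuotSMul_mk_tmul, Submodule.Quotient.mk_eq_zero] at h2
  exact h2

end GrothLib.CartanRel
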