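import Groth.Agent.Lib.CartanRel.Rel
import Mathlib.RingTheory.Spectrum.Prime.Topology
import Mathlib.RingTheory.Localization.AtPrime.Basic
import Mathlib.LinearAlgebra.Charpoly.Basic
import Mathlib.RingTheory.Localization.Integer
import Mathlib.RingTheory.Localization.Integral
import Mathlib.RingTheory.LocalProperties.Reduced

/-!
# Openness of the regular locus and the quasi-regular elements over a reduced base
-/

universe u

open Module LieAlgebra LieSubalgebra TensorProduct SGA3t2b

namespace GrothLib.CartanRel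

attribute [local instance 100] LieRing.ofAssociativeRing

variable {A : Type u} [CommRing A] {L : Type u} [LieRing L] [LieAlgebra A L]
  [Module.Finite A L] [Module.Projective A L]

/-- A free module with an endomorphism whose characteristic polynomial computes the dimension of all
the generalized kernels of `ad a` on the fibres. -/
theorem exists_charpoly (a : L) :
    ∃ P : Polynomial A, P.Monic ∧ ∀ q : PrimeSpectrum A,
      finrank q.asIdeal.ResidueField
          (engel q.asIdeal.ResidueField ((1 : q.asIdeal.ResidueField) ⊗ₜ[A] a)) =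
        (P.map (algebraMap A q.asIdeal.ResidueField)).natTrailingDegree := by
  obtain ⟨N, π, hπ⟩ := Module.Finite.exists_fin' A L
  obtain ⟨σ, hσ⟩ := Module.projective_lifting_property π LinearMap.id hπ
  let F : Module.End A (Fin N → A) := σ ∘ₗ (ad A L a) ∘ₗ π + (LinearMap.id - σ ∘ₗ π)
  refine ⟨F.charpoly, F.charpoly_monic, fun q => ?_⟩
  set κ := q.asIdeal.ResidueField
  set x : κ ⊗[A] L := (1 : κ) ⊗ₜ[A] a
  rw [← LinearMap.charpoly_baseChange, ← LinearMap.finrank_maxGenEigenspace_zero_eq]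
  set f' : Module.End κ (κ ⊗[A] L) := ad κ (κ ⊗[A] L) x
  set π' := π.baseChange κ
  set σ' := σ.baseChange κ
  have hf' : f' = (ad A L a).baseChange κ := LieModule.toEnd_baseChange ..
  have hσ' : ∀ y, π' (σ' y) = y := fun y => by
    rw [← LinearMap.comp_apply, ← LinearMap.baseChange_comp, hσ, LinearMap.baseChange_id]; rfl
  have hF : ∀ z, F.baseChange κ z = σ' (f' (π' z)) + (z - σ' (π' z)) := fun z => by
    induction z using TensorProduct.induction_on with
    | zero => simp
    | tmul c v => simp [F, hf', π', σ', TensorProduct.tmul_add, TensorProduct.tmul_sub]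
    | add u v hu hv => simp only [map_add, hu, hv]; abel
  have h1 : ∀ (n : ℕ) y, ((F.baseChange κ) ^ n) (σ' y) = σ' ((f' ^ n) y) := fun n => by
    induction n with
    | zero => intro y; rfl
    | succ n ih =>
      intro y
      rw [pow_succ, pow_succ, Module.End.mul_apply, Module.End.mul_apply, hF, hσ', sub_self, add_zero, ih]
  have h2 : ∀ (n : ℕ) z, π' (((F.baseChange κ) ^ n) z) = (f' ^ n) (π' z) := fun n => by
    induction n with
    | zero => intro z; rfl
    | succ n ih =>
      intro z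
      rw [pow_succ, pow_succ, Module.End.mul_apply, Module.End.mul_apply, ih, hF, map_add, map_sub, hσ', hσ',
        sub_self, add_zero]
  have h3 : ∀ (n : ℕ) z, ((F.baseChange κ) ^ n) z - σ' (π' (((F.baseChange κ) ^ n) z)) = z - σ' (π' z) := fun n => by
    induction n with
    | zero => intro z; rfl
    | succ n ih =>
      intro z
      rw [pow_succ, Module.End.mul_apply, ih, hF, map_add, map_sub, hσ', hσ', sub_self, add_zero]
      abel
  have hset : Module.End.maxGenEigenspace (F.baseChange κ) 0 = (engel κ x).toSubmodule.map σ' := by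
    ext z
    have e : F.baseChange κ - (0 : κ) • 1 = F.baseChange κ := by
      rw [zero_smul]; exact sub_zero (F.baseChange κ)
    rw [Module.End.mem_maxGenEigenspace, e]
    constructor
    · rintro ⟨n, hn⟩
      refine ⟨π' z, (mem_engel_iff κ x _).2 ⟨n, by rw [← h2, hn, map_zero]⟩, ?_⟩
      have := h3 n z
      rw [hn, map_zero, map_zero, sub_zero] at this
      exact (sub_eq_zero.mp this.symm).symm
    · rintro ⟨y, hy, rfl⟩
      obtain ⟨n, hn⟩ := (mem_engel_iff κ x _).1 hy
      exact ⟨n, by rw [h1, hn, map_zero]⟩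
  rw [hset]
  exact ((engel κ x).toSubmodule.equivMapOfInjective σ' (Function.LeftInverse.injective hσ')).finrank_eq

theorem exists_nhd_finrank_engel_le (a : L) (p : PrimeSpectrum A) :
    ∃ s, s ∉ p.asIdeal ∧ ∀ q : PrimeSpectrum A, s ∉ q.asIdeal →
      finrank q.asIdeal.ResidueField
          (engel q.asIdeal.ResidueField ((1 : q.asIdeal.ResidueField) ⊗ₜ[A] a)) ≤
        finrank p.asIdeal.ResidueField
          (engel p.asIdeal.ResidueField ((1 : p.asIdeal.ResidueField) ⊗ₜ[A] a)) := by
  obtain ⟨P, hmon, hP⟩ := exists_charpoly (A := A) a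
  set d := finrank p.asIdeal.ResidueField
    (engel p.asIdeal.ResidueField ((1 : p.asIdeal.ResidueField) ⊗ₜ[A] a))
  have hd : d = _ := hP p
  refine ⟨P.coeff d, fun h => ?_, fun q hq => ?_⟩
  · have hne : P.map (algebraMap A p.asIdeal.ResidueField) ≠ 0 := (hmon.map _).ne_zero
    refine Polynomial.trailingCoeff_nonzero_iff_nonzero.2 hne ?_
    rw [Polynomial.trailingCoeff, ← hd, Polynomial.coeff_map]
    exact Ideal.algebraMap_residueField_eq_zero.2 h
  · rw [hP q]
    refine Polynomial.natTrailingDegree_le_of_ne_zero ?_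
    rw [Polynomial.coeff_map, ne_eq, Ideal.algebraMap_residueField_eq_zero]
    exact hq

/-- Over a base where the rank of the fibres is locally constant the regular locus is open. -/
theorem exists_nhd_isRegular {p : PrimeSpectrum A} (hC0 : ∃ f : A, f ∉ p.asIdeal ∧
      ∀ q : PrimeSpectrum A, f ∉ q.asIdeal → rk L q = rk L p) (a : L)
    (ha : IsRegular p.asIdeal.ResidueField ((1 : p.asIdeal.ResidueField) ⊗ₜ[A] a)) :
    ∃ g, g ∉ p.asIdeal ∧ ∀ q : PrimeSpectrum A, g ∉ q.asIdeal →
      IsRegular q.asIdeal.ResidueField ((1 : q.asIdeal.ResidueField) ⊗ₜ[A] a) := by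
  obtain ⟨f, hf, hfr⟩ := hC0
  obtain ⟨s, hs, hsd⟩ := exists_nhd_finrank_engel_le a p
  refine ⟨f * s, fun h => (p.2.mem_or_mem h).elim hf hs, fun q hq => ?_⟩
  rw [isRegular_iff_finrank_engel_eq_rank] at ha ⊢
  refine le_antisymm ?_ (rank_le_finrank_engel _ _)
  exact ((hsd q fun h => hq (q.asIdeal.mul_mem_left f h)).trans ha.le).trans
    (hfr q fun h => hq (q.asIdeal.mul_mem_right s h)).ge

theorem isOpen_of_nhds {S : Set (PrimeSpectrum A)}
    (h : ∀ p ∈ S, ∃ f : A, f ∉ p.asIdeal ∧ ∀ q : PrimeSpectrum A, f ∉ q.asIdeal → q ∈ S) : IsOpen S := by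
  rw [isOpen_iff_forall_mem_open]
  intro p hp
  obtain ⟨f, hf, hS⟩ := h p hp
  exact ⟨PrimeSpectrum.basicOpen f, fun q hq => hS q hq, PrimeSpectrum.isOpen_basicOpen, hf⟩

theorem exists_nhd_of_isOpen {S : Set (PrimeSpectrum A)} (hS : IsOpen S) {p : PrimeSpectrum A} (hp : p ∈ S) :
    ∃ f : A, f ∉ p.asIdeal ∧ ∀ q : PrimeSpectrum A, f ∉ q.asIdeal → q ∈ S := by
  obtain ⟨_, ⟨f, rfl⟩, hpf, hfS⟩ := PrimeSpectrum.isTopologicalBasis_basic_opens.exists_subset_of_mem_open hp hS
  exact ⟨f, hpf, fun q hq => hfS hq⟩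

theorem finrank_fib_eq_rankAtStalk (H : LieSubalgebra A L) (hH : Module.Projective A (L ⧸ H.toSubmodule))
    (p : PrimeSpectrum A) : finrank p.asIdeal.ResidueField (fib p H) = Module.rankAtStalk (R := A) H p := by
  obtain ⟨_, _⟩ := finite_projective H hH
  rw [finrank_fib p H hH]
  exact (Module.rankAtStalk_eq p).symm

theorem isLocallyConstant_rk_of_isCartanRel {H : LieSubalgebra A L} (hH : IsCartanRel H) :
    IsLocallyConstant (rk (A := A) L) := by
  obtain ⟨_, _⟩ := finite_projective H hH.1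
  haveI : Module.FinitePresentation A H := Module.finitePresentation_of_projective A H
  have h : rk (A := A) L = Module.rankAtStalk (R := A) H := funext fun p => by
    rw [← finrank_fib_eq_rankAtStalk H hH.1 p]
    exact (hH.2 p).2.2.symm
  rw [h]
  exact Module.isLocallyConstant_rankAtStalk

theorem exists_lift (p : PrimeSpectrum A) {M : Type u} [AddCommGroup M] [Module A M]
    (x : p.asIdeal.ResidueField ⊗[A] M) :
    ∃ s, s ∉ p.asIdeal ∧ ∃ m : M, algebraMap A p.asIdeal.ResidueField s • x = (1 : p.asIdeal.ResidueField) ⊗ₜ[A] m := by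
  induction x using TensorProduct.induction_on with
  | zero => exact ⟨1, fun h => p.2.ne_top ((Ideal.eq_top_iff_one _).2 h), 0, by simp⟩
  | tmul c m =>
    obtain ⟨b, ⟨d, hd⟩, rfl⟩ := IsLocalization.exists_mk'_eq (nonZeroDivisors (A ⧸ p.asIdeal)) c
    obtain ⟨t, rfl⟩ := Ideal.Quotient.mk_surjective d
    obtain ⟨r, rfl⟩ := Ideal.Quotient.mk_surjective b
    refine ⟨t, fun h => nonZeroDivisors.ne_zero hd (Ideal.Quotient.eq_zero_iff_mem.2 h), r • m, ?_⟩
    have e : algebraMap (A ⧸ p.asIdeal) p.asIdeal.ResidueField (Ideal.Quotient.mk p.asIdeal t) *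
        IsLocalization.mk' p.asIdeal.ResidueField (Ideal.Quotient.mk p.asIdeal r)
          (⟨Ideal.Quotient.mk p.asIdeal t, hd⟩ : nonZeroDivisors (A ⧸ p.asIdeal)) =
        algebraMap (A ⧸ p.asIdeal) p.asIdeal.ResidueField (Ideal.Quotient.mk p.asIdeal r) :=
      IsLocalization.mk'_spec' p.asIdeal.ResidueField (Ideal.Quotient.mk p.asIdeal r)
        (⟨Ideal.Quotient.mk p.asIdeal t, hd⟩ : nonZeroDivisors (A ⧸ p.asIdeal))
    rw [TensorProduct.smul_tmul', smul_eq_mul, IsScalarTower.algebraMap_apply A (A ⧸ p.asIdeal),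
      Ideal.Quotient.algebraMap_eq, e, TensorProduct.tmul_smul,
      TensorProduct.smul_tmul', Algebra.smul_def, mul_one, IsScalarTower.algebraMap_apply A (A ⧸ p.asIdeal) p.asIdeal.ResidueField r,
      Ideal.Quotient.algebraMap_eq]
  | add x y hx hy =>
    obtain ⟨s, hs, m, hm⟩ := hx
    obtain ⟨t, ht, n, hn⟩ := hy
    refine ⟨s * t, fun h => (p.2.mem_or_mem h).elim hs ht, t • m + s • n, ?_⟩
    rw [smul_add, map_mul, TensorProduct.tmul_add, TensorProduct.tmul_smul, TensorProduct.tmul_smul, ← hm, ← hn,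
      ← algebraMap_smul p.asIdeal.ResidueField t, ← algebraMap_smul p.asIdeal.ResidueField s (_ • y),
      smul_smul, smul_smul, mul_comm (algebraMap A _ t)]

theorem isRegular_smul {K : Type u} [Field K] {V : Type u} [LieRing V] [LieAlgebra K V] [Module.Finite K V]
    {c : K} (hc : c ≠ 0) {x : V} (hx : IsRegular K x) : IsRegular K (c • x) := by
  rw [isRegular_iff_finrank_engel_eq_rank] at hx ⊢
  have e : engel K (c • x) = engel K x := by
    ext y
    simp only [mem_engel_iff, map_smul, smul_pow, LinearMap.smul_apply, smul_eq_zero, pow_eq_zero_iff', hc,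
      false_and, false_or]
  rw [e, hx]

section Reduced

variable {A' : Type u} [CommRing A'] [Algebra A A']

theorem exists_aeval_eq_mul_of_coeff {B : Type u} [CommRing B] {M : Type u} [AddCommGroup M] [Module B M]
    [Module.Free B M] [Module.Finite B M] (f : Module.End B M) (r : ℕ)
    (h0 : ∀ j < r, f.charpoly.coeff j = 0) (hu : IsUnit (f.charpoly.coeff r)) (N : ℕ) (hN : r ≤ N) :
    ∃ g : Polynomial B, f ^ N = Polynomial.aeval f g * f ^ (N + 1) := by
  obtain ⟨g₁, hg₁⟩ := Polynomial.X_pow_dvd_iff.2 h0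
  obtain ⟨u, hu'⟩ := hu
  have hg0 : g₁.coeff 0 = u := by
    rw [hu', hg₁, mul_comm, ← Polynomial.coeff_mul_X_pow g₁ r 0, zero_add]
  refine ⟨-(Polynomial.C (↑u⁻¹ : B) * g₁.divX), ?_⟩
  have h := LinearMap.aeval_self_charpoly f
  rw [hg₁, map_mul, map_pow, Polynomial.aeval_X, ← Polynomial.X_mul_divX_add g₁, hg0, map_add, map_mul,
    Polynomial.aeval_X, Polynomial.aeval_C, mul_add] at h
  set G := Polynomial.aeval f g₁.divX
  have hG : Commute f G := by
    conv_lhs => rw [← Polynomial.aeval_X (R := B) f]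
    exact (Commute.all Polynomial.X g₁.divX).map (Polynomial.aeval f)
  have key : f ^ r = -(algebraMap B (Module.End B M) (↑u⁻¹ : B) * G) * f ^ (r + 1) := by
    have h2 : f ^ r * algebraMap B (Module.End B M) (u : B) = -(G * f ^ (r + 1)) := by
      rw [eq_neg_of_add_eq_zero_right h, ← mul_assoc, ← pow_succ, (hG.pow_left (r + 1)).eq]
    rw [neg_mul, mul_assoc, ← mul_neg, ← h2, ← Algebra.commutes, ← mul_assoc, ← map_mul, Units.inv_mul, map_one,
      one_mul]
  rw [map_neg, map_mul, Polynomial.aeval_C]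
  change _ = -(algebraMap B (Module.End B M) (↑u⁻¹ : B) * G) * _
  obtain ⟨k, rfl⟩ := Nat.exists_eq_add_of_le hN
  calc f ^ (r + k) = f ^ r * f ^ k := pow_add f r k
    _ = _ := by rw [key, mul_assoc, ← pow_add, show r + 1 + k = r + k + 1 by omega]

theorem aeval_push (m : PrimeSpectrum A') (a' : A' ⊗[A] L) (g : Polynomial A') (x : A' ⊗[A] L) :
    push (A := A) A' (Localization.AtPrime m.asIdeal) (Polynomial.aeval (ad A' (A' ⊗[A] L) a') g x) =
      Polynomial.aeval (ad (Localization.AtPrime m.asIdeal) (Localization.AtPrime m.asIdeal ⊗[A] L)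
        (push (A := A) A' (Localization.AtPrime m.asIdeal) a')) (g.map (algebraMap A' (Localization.AtPrime m.asIdeal)))
        (push (A := A) A' (Localization.AtPrime m.asIdeal) x) := by
  induction g using Polynomial.induction_on generalizing x with
  | C c =>
    simp only [Polynomial.map_C, Polynomial.aeval_C, Module.algebraMap_end_apply, ← cancel_one_tmul,
      TensorProduct.tmul_smul]
    rw [← algebraMap_smul (Localization.AtPrime m.asIdeal) c ((1 : Localization.AtPrime m.asIdeal) ⊗ₜ[A'] x),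
      map_smul]
  | add p q hp hq => simp only [Polynomial.map_add, map_add, LinearMap.add_apply, hp, hq]
  | monomial n c ih =>
    simp only [pow_succ, ← mul_assoc, Polynomial.map_mul, Polynomial.map_X, map_mul, Polynomial.aeval_X,
      Module.End.mul_apply] at ih ⊢
    rw [ih]
    rw [show push (A := A) A' (Localization.AtPrime m.asIdeal) ((ad A' (A' ⊗[A] L) a') x) =
      ad (Localization.AtPrime m.asIdeal) (Localization.AtPrime m.asIdeal ⊗[A] L)
        (push (A := A) A' (Localization.AtPrime m.asIdeal) a') (push (A := A) A' (Localization.AtPrime m.asIdeal) x)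
      from LieHom.map_lie (push (A := A) A' (Localization.AtPrime m.asIdeal)) a' x]

theorem coeff_charpoly_eq_zero {A₀ L₀ : Type u} [CommRing A₀] [IsReduced A₀] [LieRing L₀] [LieAlgebra A₀ L₀]
    [Module.Free A₀ L₀] [Module.Finite A₀ L₀] {r : ℕ} (h : ∀ P : PrimeSpectrum A₀, r ≤ rk L₀ P)
    (B : Type u) [CommRing B] [Algebra A₀ B] (x : B ⊗[A₀] L₀) {j : ℕ} (hj : j < r) :
    (ad B (B ⊗[A₀] L₀) x).charpoly.coeff j = 0 := by
  rw [charpoly_ad_baseChange, Polynomial.coeff_map]
  suffices (adPoly A₀ L₀).coeff j = 0 by rw [this, map_zero]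
  ext d
  rw [MvPolynomial.coeff_zero]
  refine IsReduced.eq_zero _ ((mem_nilradical).1 ?_)
  rw [nilradical_eq_sInf, Ideal.mem_sInf]
  intro P hP
  haveI : P.IsPrime := hP
  have h1 := congrArg (MvPolynomial.coeff d) (map_coeff_eq_zero (A := A₀) (L := L₀) P.ResidueField
    (j := j) (hj.trans_le (h ⟨P, hP⟩)))
  rw [MvPolynomial.coeff_map, MvPolynomial.coeff_zero] at h1
  exact Ideal.algebraMap_residueField_eq_zero.1 h1

omit [Module.Projective A L] in
theorem rk_atPrime {r : ℕ} (q : PrimeSpectrum A) {f : A} (hf : f ∉ q.asIdeal)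
    (hr : ∀ p : PrimeSpectrum A, f ∉ p.asIdeal → rk L p = r)
    (P : PrimeSpectrum (Localization.AtPrime q.asIdeal)) :
    rk (Localization.AtPrime q.asIdeal ⊗[A] L) P = r := by
  rw [rk_baseChange]
  refine hr _ fun h => hf ((IsLocalization.AtPrime.to_map_mem_maximal_iff (Localization.AtPrime q.asIdeal) q.asIdeal f).1
    (IsLocalRing.le_maximalIdeal P.2.ne_top h))

omit [Module.Projective A L] in
theorem finrank_fibre_le {N : ℕ} (π : (Fin N → A) →ₗ[A] L) (hπ : Function.Surjective π) (q : PrimeSpectrum A) :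
    rk L q ≤ N := by
  refine (rank_le_finrank q.asIdeal.ResidueField (q.asIdeal.ResidueField ⊗[A] L)).trans ?_
  haveI : Nontrivial A := (algebraMap A q.asIdeal.ResidueField).domain_nontrivial
  refine le_trans (LinearMap.finrank_le_finrank_of_surjective
    (f := π.baseChange q.asIdeal.ResidueField) (LinearMap.lTensor_surjective _ hπ)) ?_
  exact (Module.finrank_baseChange (R := q.asIdeal.ResidueField) (S := A) (M' := Fin N → A)).trans_le (by simp)

theorem isUnit_coeff (m : PrimeSpectrum A') (a' : A' ⊗[A] L) [Module.Free (Localization.AtPrime m.asIdeal) (Localization.AtPrime m.asIdeal ⊗[A] L)]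
    (ha : IsRegular m.asIdeal.ResidueField ((1 : m.asIdeal.ResidueField) ⊗ₜ[A'] a')) :
    IsUnit ((ad (Localization.AtPrime m.asIdeal) (Localization.AtPrime m.asIdeal ⊗[A] L)
      (push (A := A) A' (Localization.AtPrime m.asIdeal) a')).charpoly.coeff
        (rk L (PrimeSpectrum.comap (algebraMap A A') m))) := by
  have hreg : IsRegular m.asIdeal.ResidueField ((1 : m.asIdeal.ResidueField) ⊗ₜ[Localization.AtPrime m.asIdeal]
      push (A := A) A' (Localization.AtPrime m.asIdeal) a') := by
    rw [← isRegular_equiv (cancel (A := A) (L := L) (Localization.AtPrime m.asIdeal) m.asIdeal.ResidueField)]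
    have h := (isRegular_equiv (cancel (A := A) (L := L) A' m.asIdeal.ResidueField)
      ((1 : m.asIdeal.ResidueField) ⊗ₜ[A'] a')).2 ha
    convert h using 2
    rw [cancel_one_tmul, cancel_one_tmul]
    generalize a' = y
    induction y using TensorProduct.induction_on with
    | zero => simp
    | tmul c x => simp [push, IsScalarTower.algebraMap_apply A' (Localization.AtPrime m.asIdeal) m.asIdeal.ResidueField]
    | add u v hu hv => simp only [map_add, hu, hv]
  have hrk : rank m.asIdeal.ResidueField (m.asIdeal.ResidueField ⊗[Localization.AtPrime m.asIdeal]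
      (Localization.AtPrime m.asIdeal ⊗[A] L)) = rk L (PrimeSpectrum.comap (algebraMap A A') m) :=
    (rank_equiv (cancel (A := A) (L := L) (Localization.AtPrime m.asIdeal) m.asIdeal.ResidueField)).trans
      (rank_eq_rk _ _ (comap_algebraMap_eq_zero m))
  rw [isRegular_def, hrk, LieAlgebra.ad, LieModule.toEnd_baseChange, LinearMap.charpoly_baseChange,
    Polynomial.coeff_map] at hreg
  by_contra hn
  exact hreg ((IsLocalRing.residue_eq_zero_iff _).2 hn)

theorem exists_smul_eq (m : PrimeSpectrum A') (a' : A' ⊗[A] L) (N : ℕ)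
    (g : Polynomial (Localization.AtPrime m.asIdeal))
    (hg : (ad (Localization.AtPrime m.asIdeal) (Localization.AtPrime m.asIdeal ⊗[A] L)
        (push (A := A) A' (Localization.AtPrime m.asIdeal) a')) ^ N =
      Polynomial.aeval (ad (Localization.AtPrime m.asIdeal) (Localization.AtPrime m.asIdeal ⊗[A] L)
        (push (A := A) A' (Localization.AtPrime m.asIdeal) a')) g *
      (ad (Localization.AtPrime m.asIdeal) (Localization.AtPrime m.asIdeal ⊗[A] L)
        (push (A := A) A' (Localization.AtPrime m.asIdeal) a')) ^ (N + 1)) :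
    ∃ c, c ∉ m.asIdeal ∧ ∃ g' : Polynomial A', c • (ad A' (A' ⊗[A] L) a') ^ N =
      Polynomial.aeval (ad A' (A' ⊗[A] L) a') g' * (ad A' (A' ⊗[A] L) a') ^ (N + 1) := by
  classical
  set f := ad A' (A' ⊗[A] L) a'
  set B := Localization.AtPrime m.asIdeal
  set fm := ad B (B ⊗[A] L) (push (A := A) A' B a')
  obtain ⟨⟨b, hb⟩, hbg⟩ := IsLocalization.integerNormalization_map_to_map m.asIdeal.primeCompl g
  set h' := IsLocalization.integerNormalization m.asIdeal.primeCompl g
  have e1 : Polynomial.aeval f (Polynomial.C b * Polynomial.X ^ N - h' * Polynomial.X ^ (N + 1)) =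
      b • f ^ N - Polynomial.aeval f h' * f ^ (N + 1) := by
    simp [Algebra.smul_def]
  have e2 : Polynomial.aeval fm (Polynomial.C (algebraMap A' B b) * Polynomial.X ^ N -
      h'.map (algebraMap A' B) * Polynomial.X ^ (N + 1)) = 0 := by
    rw [hbg, Algebra.smul_def (R := A'), Polynomial.algebraMap_apply, map_sub, map_mul, map_mul, map_mul, map_pow, map_pow,
      Polynomial.aeval_X, mul_assoc, ← hg, sub_self]
  have hpush : ∀ x, push (A := A) A' B ((b • f ^ N - Polynomial.aeval f h' * f ^ (N + 1)) x) = 0 := by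
    intro x
    rw [← e1, aeval_push, Polynomial.map_sub, Polynomial.map_mul, Polynomial.map_mul, Polynomial.map_pow,
      Polynomial.map_pow, Polynomial.map_X, Polynomial.map_C, e2, LinearMap.zero_apply]
  obtain ⟨s, hs⟩ := (Module.Finite.fg_top (R := A') (M := A' ⊗[A] L))
  have hker : ∀ y, push (A := A) A' B y = 0 → ∃ t, t ∉ m.asIdeal ∧ t • y = 0 := fun y hy => by
    rw [← cancel_one_tmul (A := A) (L := L) A' B] at hy
    have hy' : TensorProduct.mk A' B (A' ⊗[A] L) 1 y = 0 :=
      (cancel (A := A) (L := L) A' B).injective (hy.trans (cancel (A := A) (L := L) A' B).toLinearEquiv.map_zero.symm)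
    obtain ⟨⟨t, ht⟩, hty⟩ :=
      (IsLocalizedModule.eq_zero_iff m.asIdeal.primeCompl (TensorProduct.mk A' B (A' ⊗[A] L) 1)).1 hy'
    exact ⟨t, ht, hty⟩
  choose t ht hty using fun y : A' ⊗[A] L => hker _ (hpush y)
  refine ⟨(∏ y ∈ s, t y) * b, fun h => ?_, (∏ y ∈ s, t y) • h', ?_⟩
  · rcases m.2.mem_or_mem h with h | h
    · obtain ⟨y, -, hy⟩ := Ideal.IsPrime.prod_mem_iff.1 h
      exact ht y hy
    · exact hb h
  · rw [map_smul, smul_mul_assoc, mul_smul, ← sub_eq_zero, ← smul_sub]
    refine LinearMap.ext_on hs fun y hy => ?_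
    rw [LinearMap.smul_apply, LinearMap.zero_apply, ← Finset.prod_erase_mul s t hy, mul_smul, hty, smul_zero]

omit [Module.Projective A L] [Module.Finite A L] in
theorem charpoly_cancel {A₀ B : Type u} [CommRing A₀] [CommRing B] [Algebra A A₀] [Algebra A₀ B] [Algebra A B]
    [IsScalarTower A A₀ B] [Module.Free B (B ⊗[A] L)] [Module.Finite B (B ⊗[A] L)]
    [Module.Free B (B ⊗[A₀] (A₀ ⊗[A] L))] [Module.Finite B (B ⊗[A₀] (A₀ ⊗[A] L))] (x : B ⊗[A] L) :
    (ad B (B ⊗[A] L) x).charpoly =
      (ad B (B ⊗[A₀] (A₀ ⊗[A] L)) ((cancel (A := A) (L := L) A₀ B).symm x)).charpoly := by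
  rw [← LinearEquiv.charpoly_conj (cancel (A := A) (L := L) A₀ B).toLinearEquiv
    (ad B (B ⊗[A₀] (A₀ ⊗[A] L)) ((cancel (A := A) (L := L) A₀ B).symm x))]
  congr 1
  refine LinearMap.ext fun y => ?_
  simp [LinearEquiv.conj_apply, LieEquiv.map_lie]
  exact congrArg (⁅x, ·⁆) (LinearEquiv.apply_symm_apply (cancel (A := A) (L := L) A₀ B).toLinearEquiv y).symm

/-- Over a reduced base with locally constant rank, a power of `ad` of a quasi-regular element splits off. -/
theorem exists_fitting [IsReduced A] (hC0 : ∀ p : PrimeSpectrum A, ∃ f : A, f ∉ p.asIdeal ∧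
      ∀ q : PrimeSpectrum A, f ∉ q.asIdeal → rk L q = rk L p)
    (a' : A' ⊗[A] L) (ha' : IsQuasiRegular A' (A' ⊗[A] L) a') :
    ∃ (N : ℕ) (g : Polynomial A'),
      (ad A' (A' ⊗[A] L) a') ^ N = Polynomial.aeval (ad A' (A' ⊗[A] L) a') g * (ad A' (A' ⊗[A] L) a') ^ (N + 1) := by
  obtain ⟨N, π, hπ⟩ := Module.Finite.exists_fin' A L
  refine ⟨N, ?_⟩
  set f : Module.End A' (A' ⊗[A] L) := ad A' (A' ⊗[A] L) a'
  let I : Ideal A' :=
    { carrier := {s : A' | ∃ g : Polynomial A', s • f ^ N = Polynomial.aeval f g * f ^ (N + 1)}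
      zero_mem' := ⟨0, by simp⟩
      add_mem' := fun {x y} hx hy => by
        obtain ⟨g, hg⟩ := hx
        obtain ⟨g', hg'⟩ := hy
        exact ⟨g + g', by rw [add_smul, hg, hg', map_add, add_mul]⟩
      smul_mem' := fun c x hx => by
        obtain ⟨g, hg⟩ := hx
        exact ⟨c • g, by rw [smul_eq_mul, mul_smul, hg, map_smul, smul_mul_assoc]⟩ }
  suffices (1 : A') ∈ I by
    obtain ⟨g, hg⟩ := this
    exact ⟨g, (one_smul A' _).symm.trans hg⟩
  by_contra hI
  obtain ⟨𝔪, h𝔪, hle⟩ := Ideal.exists_le_maximal I ((Ideal.ne_top_iff_one I).2 hI)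
  let m : PrimeSpectrum A' := ⟨𝔪, h𝔪.isPrime⟩
  let q : PrimeSpectrum A := PrimeSpectrum.comap (algebraMap A A') m
  let A₀ := Localization.AtPrime q.asIdeal
  let φ : A₀ →+* Localization.AtPrime m.asIdeal := Localization.localRingHom q.asIdeal m.asIdeal (algebraMap A A') rfl
  letI : Algebra A₀ (Localization.AtPrime m.asIdeal) := φ.toAlgebra
  haveI : IsScalarTower A A₀ (Localization.AtPrime m.asIdeal) := IsScalarTower.of_algebraMap_eq fun x => by
    rw [RingHom.algebraMap_toAlgebra, Localization.localRingHom_to_map, ← IsScalarTower.algebraMap_apply]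
  haveI : Module.Free A₀ (A₀ ⊗[A] L) := Module.free_of_flat_of_isLocalRing
  haveI : Module.Free (Localization.AtPrime m.asIdeal) (Localization.AtPrime m.asIdeal ⊗[A] L) :=
    Module.Free.of_equiv (cancel (A := A) (L := L) A₀ (Localization.AtPrime m.asIdeal)).toLinearEquiv
  haveI : IsReduced A₀ := isReduced_localizationPreserves q.asIdeal.primeCompl A₀ inferInstance
  obtain ⟨f₀, hf₀, hf₀r⟩ := hC0 q
  have hzero : ∀ j < rk L q, (ad (Localization.AtPrime m.asIdeal) (Localization.AtPrime m.asIdeal ⊗[A] L)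
      (push (A := A) A' (Localization.AtPrime m.asIdeal) a')).charpoly.coeff j = 0 := fun j hj => by
    rw [charpoly_cancel (A₀ := A₀)]
    exact coeff_charpoly_eq_zero (fun P => (rk_atPrime q hf₀ hf₀r P).ge) _ _ hj
  obtain ⟨g, hg⟩ := exists_aeval_eq_mul_of_coeff _ (rk L q) hzero (isUnit_coeff m a' (ha' m)) N
    (finrank_fibre_le π hπ q)
  obtain ⟨c, hc, g', hg'⟩ := exists_smul_eq m a' N g hg
  exact hc (hle ⟨g', hg'⟩)

/-- Over a reduced base with locally constant rank, quasi-regular elements are regular. -/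
theorem isRegularRel [IsReduced A] (hC0 : ∀ p : PrimeSpectrum A, ∃ f : A, f ∉ p.asIdeal ∧
      ∀ q : PrimeSpectrum A, f ∉ q.asIdeal → rk L q = rk L p)
    (a' : A' ⊗[A] L) (ha' : IsQuasiRegular A' (A' ⊗[A] L) a') : IsRegularRel A' (A' ⊗[A] L) a' := by
  obtain ⟨N, g, hg⟩ := exists_fitting hC0 a' ha'
  refine ⟨ha', engel A' a', isCartanRel_engel_of_fitting ha' N _ ?_ hg, self_mem_engel A' a'⟩
  conv_rhs => rw [← Polynomial.aeval_X (R := A') (ad A' (A' ⊗[A] L) a')]
  exact (Commute.all g Polynomial.X).map _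

end Reduced

end GrothLib.CartanRel
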