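import Groth.Agent.Lib.CartanRel.Fibre
import Mathlib.RingTheory.Spectrum.Prime.FreeLocus

/-!
# Cartan subalgebras relative to a base ring
-/

universe u

open Module LieAlgebra LieSubalgebra TensorProduct SGA3t2b

namespace GrothLib.CartanRel

attribute [local instance 100] LieRing.ofAssociativeRing

variable {A : Type u} [CommRing A] {L : Type u} [LieRing L] [LieAlgebra A L]

/-- The fibre of the inclusion of a subalgebra. -/
noncomputable def inclF (p : PrimeSpectrum A) (H : LieSubalgebra A L) :
    p.asIdeal.ResidueField ⊗[A] H →ₗ⁅p.asIdeal.ResidueField⁆ p.asIdeal.ResidueField ⊗[A] L :=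
  { H.toSubmodule.subtype.baseChange p.asIdeal.ResidueField with
    map_lie' := fun {x y} => by
      induction x using TensorProduct.induction_on with
      | zero => simp
      | add a b ha hb => simp_all
      | tmul a v =>
        induction y using TensorProduct.induction_on with
        | zero => simp
        | add c d hc hd => simp_all
        | tmul b w => rfl }

/-- The fibre subalgebra. -/
noncomputable def fib (p : PrimeSpectrum A) (H : LieSubalgebra A L) :
    LieSubalgebra p.asIdeal.ResidueField (p.asIdeal.ResidueField ⊗[A] L) :=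
  (inclF p H).range

theorem fib_toSubmodule (p : PrimeSpectrum A) (H : LieSubalgebra A L) :
    (fib p H).toSubmodule = fibreSubmodule p H := rfl

theorem one_tmul_mem_fib (p : PrimeSpectrum A) {H : LieSubalgebra A L} {h : L} (hh : h ∈ H) :
    (1 : p.asIdeal.ResidueField) ⊗ₜ[A] h ∈ fib p H :=
  ⟨(1 : p.asIdeal.ResidueField) ⊗ₜ[A] (⟨h, hh⟩ : H), rfl⟩

theorem mem_fib_iff (p : PrimeSpectrum A) (H : LieSubalgebra A L) {y : p.asIdeal.ResidueField ⊗[A] L} :
    y ∈ fib p H ↔ H.toSubmodule.mkQ.baseChange p.asIdeal.ResidueField y = 0 :=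
  ((lTensor_exact p.asIdeal.ResidueField (LinearMap.exact_subtype_mkQ H.toSubmodule)
    (Submodule.mkQ_surjective _)) y).symm

theorem isNilpotent_fib (p : PrimeSpectrum A) (H : LieSubalgebra A L)
    (h : LieRing.IsNilpotent (p.asIdeal.ResidueField ⊗[A] H)) : LieRing.IsNilpotent (fib p H) :=
  Function.Surjective.lieAlgebra_isNilpotent (f := (inclF p H).rangeRestrict) (inclF p H).surjective_rangeRestrict

theorem inclF_injective (p : PrimeSpectrum A) (H : LieSubalgebra A L)
    (hH : Module.Projective A (L ⧸ H.toSubmodule)) : Function.Injective (inclF p H) := by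
  obtain ⟨s, hs⟩ := Module.projective_lifting_property H.toSubmodule.mkQ LinearMap.id
    (Submodule.mkQ_surjective _)
  let r : L →ₗ[A] H := LinearMap.codRestrict H.toSubmodule (LinearMap.id - s ∘ₗ H.toSubmodule.mkQ)
    fun x => by
      rw [← Submodule.Quotient.mk_eq_zero, ← Submodule.mkQ_apply]
      simp only [LinearMap.sub_apply, LinearMap.comp_apply, map_sub, LinearMap.id_apply]
      rw [show H.toSubmodule.mkQ (s (H.toSubmodule.mkQ x)) = H.toSubmodule.mkQ x from LinearMap.congr_fun hs _,
        sub_self]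
  refine Function.LeftInverse.injective (g := r.baseChange p.asIdeal.ResidueField) fun z => ?_
  induction z using TensorProduct.induction_on with
  | zero => simp
  | add a b ha hb => simp only [map_add, ha, hb]
  | tmul a h =>
    change a ⊗ₜ[A] r (h : L) = a ⊗ₜ[A] h
    congr 1
    refine Subtype.ext ?_
    change (h : L) - s (H.toSubmodule.mkQ h) = h
    rw [Submodule.mkQ_apply, (Submodule.Quotient.mk_eq_zero _).mpr h.2, map_zero, sub_zero]

theorem finrank_fib (p : PrimeSpectrum A) (H : LieSubalgebra A L)
    (hH : Module.Projective A (L ⧸ H.toSubmodule)) :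
    finrank p.asIdeal.ResidueField (fib p H) =
      finrank p.asIdeal.ResidueField (p.asIdeal.ResidueField ⊗[A] H) :=
  LinearMap.finrank_range_of_inj (inclF_injective p H hH)

variable [Module.Finite A L]

theorem finite_projective (H : LieSubalgebra A L) [Module.Projective A L]
    (hH : Module.Projective A (L ⧸ H.toSubmodule)) : Module.Finite A H ∧ Module.Projective A H := by
  obtain ⟨s, hs⟩ := Module.projective_lifting_property H.toSubmodule.mkQ LinearMap.id
    (Submodule.mkQ_surjective _)
  let r : L →ₗ[A] H := LinearMap.codRestrict H.toSubmodule (LinearMap.id - s ∘ₗ H.toSubmodule.mkQ)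
    fun x => by
      rw [← Submodule.Quotient.mk_eq_zero, ← Submodule.mkQ_apply]
      simp only [LinearMap.sub_apply, LinearMap.comp_apply, map_sub, LinearMap.id_apply]
      rw [show H.toSubmodule.mkQ (s (H.toSubmodule.mkQ x)) = H.toSubmodule.mkQ x from LinearMap.congr_fun hs _,
        sub_self]
  have hr : r ∘ₗ H.toSubmodule.subtype = LinearMap.id := LinearMap.ext fun h => Subtype.ext (by
    change (h : L) - s (H.toSubmodule.mkQ h) = h
    rw [Submodule.mkQ_apply, (Submodule.Quotient.mk_eq_zero _).mpr h.2, map_zero, sub_zero])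
  exact ⟨Module.Finite.of_surjective r fun h => ⟨h, LinearMap.congr_fun hr h⟩,
    Module.Projective.of_split H.toSubmodule.subtype r hr⟩

theorem fib_eq_engel (H : LieSubalgebra A L) (hH : IsCartanRel H) (p : PrimeSpectrum A) {a : L}
    (haH : a ∈ H) (ha : IsRegular p.asIdeal.ResidueField ((1 : p.asIdeal.ResidueField) ⊗ₜ[A] a)) :
    fib p H = engel p.asIdeal.ResidueField ((1 : p.asIdeal.ResidueField) ⊗ₜ[A] a) := by
  haveI := isNilpotent_fib p H (hH.2 p).1
  exact eq_engel _ (hH.2 p).2.2 (one_tmul_mem_fib p haH) ha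

section Quot

variable (H : LieSubalgebra A L) (a : L) (haH : a ∈ H)

/-- The endomorphism induced by `ad a` on the quotient. -/
noncomputable def fbar : Module.End A (L ⧸ H.toSubmodule) :=
  H.toSubmodule.mapQ H.toSubmodule (ad A L a) fun _ hh => H.lie_mem haH hh

omit [Module.Finite A L] in
theorem fbar_mkQ (x : L) : fbar H a haH (H.toSubmodule.mkQ x) = H.toSubmodule.mkQ ⁅a, x⁆ := rfl

omit [Module.Finite A L] in
theorem fbar_baseChange_mkQ (K : Type u) [CommRing K] [Algebra A K] (y : K ⊗[A] L) :
    (fbar H a haH).baseChange K (H.toSubmodule.mkQ.baseChange K y) =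
      H.toSubmodule.mkQ.baseChange K ⁅(1 : K) ⊗ₜ[A] a, y⁆ := by
  induction y using TensorProduct.induction_on with
  | zero => simp
  | add a b ha hb => simp only [map_add, lie_add, ha, hb]
  | tmul c x =>
    rw [LinearMap.baseChange_tmul, LinearMap.baseChange_tmul, fbar_mkQ,
      LieAlgebra.ExtendScalars.bracket_tmul, one_mul, LinearMap.baseChange_tmul]

omit [Module.Finite A L] in
theorem fbar_pow_mkQ (n : ℕ) (x : L) :
    ((fbar H a haH) ^ n) (H.toSubmodule.mkQ x) = H.toSubmodule.mkQ (((ad A L a) ^ n) x) := by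
  induction n generalizing x with
  | zero => rfl
  | succ n ih => rw [pow_succ, pow_succ, Module.End.mul_apply, Module.End.mul_apply, fbar_mkQ, ih]; rfl

theorem surjective_fbar_fibre (hH : IsCartanRel H) (p : PrimeSpectrum A)
    (ha : IsRegular p.asIdeal.ResidueField ((1 : p.asIdeal.ResidueField) ⊗ₜ[A] a)) :
    Function.Surjective ((fbar H a haH).baseChange p.asIdeal.ResidueField) := by
  refine LinearMap.injective_iff_surjective.mp ((injective_iff_map_eq_zero _).2 fun z hz => ?_)
  obtain ⟨y, rfl⟩ : ∃ y, H.toSubmodule.mkQ.baseChange p.asIdeal.ResidueField y = z :=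
    LinearMap.lTensor_surjective _ (Submodule.mkQ_surjective _) z
  rw [fbar_baseChange_mkQ, ← mem_fib_iff, fib_eq_engel H hH p haH ha, mem_engel_iff] at hz
  rw [← mem_fib_iff, fib_eq_engel H hH p haH ha, mem_engel_iff]
  obtain ⟨n, hn⟩ := hz
  exact ⟨n + 1, by rw [pow_succ, Module.End.mul_apply]; exact hn⟩

end Quot

theorem isNilpotent_ad_baseChange (H : LieSubalgebra A L) [Module.Projective A L] (hH : IsCartanRel H)
    (a : H) : IsNilpotent (ad A H a) := by
  obtain ⟨_, _⟩ := finite_projective H hH.1
  refine isNilpotent_of_fibres _ fun p => ?_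
  haveI := (hH.2 p).1
  rw [LieAlgebra.ad, ← LieModule.toEnd_baseChange]
  exact LieModule.isNilpotent_toEnd_of_isNilpotent _ _ _ _

theorem le_engel [Module.Projective A L] (H : LieSubalgebra A L) (hH : IsCartanRel H) {a : L}
    (haH : a ∈ H) : H ≤ engel A a := fun y hy => by
  obtain ⟨n, hn⟩ := isNilpotent_ad_baseChange H hH ⟨a, haH⟩
  rw [mem_engel_iff]
  refine ⟨n, ?_⟩
  rw [← LieSubalgebra.coe_ad_pow (R := A) (H := H) (x := ⟨a, haH⟩) (y := ⟨y, hy⟩), hn]
  rfl

/-- A relative Cartan subalgebra containing a quasi-regular element is its Engel subalgebra. -/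
theorem eq_engel_rel [Module.Projective A L] {H : LieSubalgebra A L} (hH : IsCartanRel H) {a : L}
    (ha : IsQuasiRegular A L a) (haH : a ∈ H) : H = engel A a := by
  refine le_antisymm (le_engel H hH haH) fun y hy => ?_
  have hbij := bijective_of_fibres (fbar H a haH) fun p => surjective_fbar_fibre H a haH hH p (ha p)
  obtain ⟨n, hn⟩ := (mem_engel_iff A a y).1 hy
  refine (Submodule.Quotient.mk_eq_zero H.toSubmodule).1 ?_
  have h0 : ((fbar H a haH) ^ n) (H.toSubmodule.mkQ y) = 0 := by rw [fbar_pow_mkQ, hn, map_zero]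
  have hi := hbij.1.iterate n
  rw [← Module.End.coe_pow] at hi
  exact hi (h0.trans (map_zero _).symm)

theorem quotient_conditions [Module.Projective A L] {H : LieSubalgebra A L} (hH : IsCartanRel H) {a : L}
    (ha : IsQuasiRegular A L a) (haH : a ∈ H) :
    Module.Projective A (L ⧸ (engel A a).toSubmodule) ∧
      (∀ z : L, ⁅a, z⁆ ∈ engel A a → z ∈ engel A a) ∧
      ∀ y : L, ∃ z : L, ⁅a, z⁆ - y ∈ engel A a := by
  have e := eq_engel_rel hH ha haH
  have hbij := bijective_of_fibres (fbar H a haH) fun p => surjective_fbar_fibre H a haH hH p (ha p)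
  refine ⟨e ▸ hH.1, fun z hz => ?_, fun y => ?_⟩
  · rw [mem_engel_iff] at hz ⊢
    obtain ⟨n, hn⟩ := hz
    exact ⟨n + 1, by rw [pow_succ, Module.End.mul_apply]; exact hn⟩
  · obtain ⟨w, hw⟩ := hbij.2 (H.toSubmodule.mkQ y)
    obtain ⟨z, rfl⟩ := H.toSubmodule.mkQ_surjective w
    rw [fbar_mkQ, Submodule.mkQ_apply, Submodule.mkQ_apply, Submodule.Quotient.eq] at hw
    exact ⟨z, e ▸ hw⟩

/-- The criterion for the Engel subalgebra of a quasi-regular element to be a relative Cartan subalgebra. -/
theorem isCartanRel_engel {a : L} (ha : IsQuasiRegular A L a)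
    (hP : Module.Projective A (L ⧸ (engel A a).toSubmodule))
    (hsurj : ∀ y : L, ∃ z : L, ⁅a, z⁆ - y ∈ engel A a) : IsCartanRel (engel A a) := by
  refine ⟨hP, fun p => ?_⟩
  set E := engel A a
  set κ := p.asIdeal.ResidueField
  set x : κ ⊗[A] L := (1 : κ) ⊗ₜ[A] a
  have hmap : ∀ (n : ℕ) (c : κ) (y : L), ((ad κ (κ ⊗[A] L) x) ^ n) (c ⊗ₜ[A] y) = c ⊗ₜ[A] (((ad A L a) ^ n) y) := by
    intro n c y
    simp only [x, LieAlgebra.ad, LieModule.toEnd_baseChange, ← LinearMap.baseChange_pow, LinearMap.baseChange_tmul]
  have hfibE : fib p E = engel κ x := by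
    refine le_antisymm ?_ fun y hy => ?_
    · rintro _ ⟨z, rfl⟩
      induction z using TensorProduct.induction_on with
      | zero => rw [map_zero]; exact zero_mem _
      | add u v hu hv => rw [map_add]; exact add_mem hu hv
      | tmul c e =>
        change c ⊗ₜ[A] (e : L) ∈ engel κ x
        obtain ⟨n, hn⟩ := (mem_engel_iff A a (e : L)).1 e.2
        rw [mem_engel_iff]
        exact ⟨n, by rw [hmap, hn, TensorProduct.tmul_zero]⟩
    · have hs : Function.Surjective (fbar E a (self_mem_engel A a)) := fun w => by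
        obtain ⟨y, rfl⟩ := E.toSubmodule.mkQ_surjective w
        obtain ⟨z, hz⟩ := hsurj y
        exact ⟨E.toSubmodule.mkQ z, by rw [fbar_mkQ]; exact (Submodule.Quotient.eq _).2 hz⟩
      have hi : Function.Injective ((fbar E a (self_mem_engel A a)).baseChange κ) :=
        LinearMap.injective_iff_surjective.mpr (LinearMap.lTensor_surjective κ hs)
      rw [mem_fib_iff]
      obtain ⟨n, hn⟩ := (mem_engel_iff κ x y).1 hy
      have h : ∀ (n : ℕ) (y : κ ⊗[A] L), (((fbar E a (self_mem_engel A a)).baseChange κ) ^ n)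
          (E.toSubmodule.mkQ.baseChange κ y) = E.toSubmodule.mkQ.baseChange κ (((ad κ (κ ⊗[A] L) x) ^ n) y) := by
        intro n
        induction n with
        | zero => intro y; rfl
        | succ n ih =>
          intro y
          rw [pow_succ, pow_succ, Module.End.mul_apply, Module.End.mul_apply, fbar_baseChange_mkQ, ih]
          rfl
      have hin := hi.iterate n
      rw [← Module.End.coe_pow] at hin
      exact hin (((h n y).trans (by rw [hn, map_zero])).trans (map_zero _).symm)
  haveI hnilE := isNilpotent_engel (ha p)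
  refine ⟨?_, fun z hz => ?_, ?_⟩
  · haveI : LieRing.IsNilpotent (inclF p E).range := by
      change LieRing.IsNilpotent (fib p E)
      rw [hfibE]; exact hnilE
    exact Function.Injective.lieAlgebra_isNilpotent (f := (inclF p E).rangeRestrict)
      (fun u v huv => inclF_injective p E hP (congrArg Subtype.val huv))
  · rw [← fib_toSubmodule, hfibE] at hz ⊢
    have h1 : z ∈ (engel κ x).normalizer := (LieSubalgebra.mem_normalizer_iff _ _).2 hz
    rwa [normalizer_engel] at h1
  · rw [← fib_toSubmodule, hfibE]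
    exact (isRegular_iff_finrank_engel_eq_rank κ x).1 (ha p)

/-- The quotient by the Engel subalgebra when a power of `ad a` splits off. -/
theorem isCartanRel_engel_of_fitting [Module.Projective A L] {a : L} (ha : IsQuasiRegular A L a) (N : ℕ)
    (h : Module.End A L) (hcomm : Commute h (ad A L a))
    (hN : (ad A L a) ^ N = h * (ad A L a) ^ (N + 1)) : IsCartanRel (engel A a) := by
  set f : Module.End A L := ad A L a
  have hj : ∀ j, f ^ N = (h * f) ^ j * f ^ N := fun j => by
    induction j with
    | zero => simp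
    | succ j ih =>
      rw [pow_succ, mul_assoc, mul_assoc, ← pow_succ', ← hN]
      exact ih
  set P : Module.End A L := (h * f) ^ N
  have hP : P = h ^ N * f ^ N := hcomm.mul_pow N
  have hker : ∀ x, P x = 0 ↔ x ∈ engel A a := fun x => by
    rw [mem_engel_iff]
    constructor
    · intro hx
      refine ⟨N, ?_⟩
      have h1 : f ^ N = f ^ N * P := by
        rw [((hcomm.mul_left (Commute.refl f)).pow_pow N N).eq.symm]
        exact hj N
      change (f ^ N) x = 0
      rw [h1, Module.End.mul_apply, hx, map_zero]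
    · rintro ⟨n, hn⟩
      have h1 : f ^ N = h ^ n * f ^ n * f ^ N := by
        rw [← hcomm.mul_pow n]
        exact hj n
      rw [hP, Module.End.mul_apply, h1, mul_assoc, ← pow_add, add_comm, pow_add, Module.End.mul_apply,
        Module.End.mul_apply, show (f ^ n) x = 0 from hn]
      simp only [map_zero]
  have hidem : ∀ x, P (P x) = P x := fun x => by
    have h1 : P * P = P := by
      conv_lhs => arg 2; rw [hP]
      rw [show P * (h ^ N * f ^ N) = h ^ N * (P * f ^ N) by
        rw [← mul_assoc, (((Commute.refl h).mul_left hcomm.symm).pow_pow N N).eq, mul_assoc],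
        ← hj N, ← hP]
    exact LinearMap.congr_fun h1 x
  refine isCartanRel_engel ha ?_ fun y => ?_
  · let i : L ⧸ (engel A a).toSubmodule →ₗ[A] L :=
      Submodule.liftQ _ P fun x hx => (hker x).2 hx
    refine Module.Projective.of_split i (engel A a).toSubmodule.mkQ ?_
    refine Submodule.linearMap_qext _ (LinearMap.ext fun x => ?_)
    change (engel A a).toSubmodule.mkQ (P x) = (engel A a).toSubmodule.mkQ x
    rw [Submodule.mkQ_apply, Submodule.mkQ_apply, Submodule.Quotient.eq]
    exact (hker _).1 (by rw [map_sub, hidem, sub_self])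
  · refine ⟨h (P y), (hker _).1 ?_⟩
    have h3 : P * (f * h) = P := by
      rw [hP, mul_assoc, ← mul_assoc (f ^ N), ← pow_succ, ((hcomm.pow_right (N + 1)).eq).symm, ← hN]
    change P (f (h (P y)) - y) = 0
    rw [map_sub, show P (f (h (P y))) = (P * (f * h)) (P y) from rfl, h3, hidem, sub_self]

section Auto

/-- The automorphism of a fibre induced by an automorphism. -/
noncomputable def fibreEquiv (K : Type u) [CommRing K] [Algebra A K] (e : L ≃ₗ⁅A⁆ L) :
    K ⊗[A] L ≃ₗ⁅K⁆ K ⊗[A] L :=
  { TensorProduct.AlgebraTensorModule.congr (LinearEquiv.refl K K) e.toLinearEquiv with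
    map_lie' := fun {x y} => by
      induction x using TensorProduct.induction_on with
      | zero => simp
      | add s t hs ht => simp_all
      | tmul c v =>
        induction y using TensorProduct.induction_on with
        | zero => simp
        | add s t hs ht => simp_all
        | tmul d w => exact congrArg ((c * d) ⊗ₜ[A] ·) (LieHom.map_lie e.toLieHom v w) }

theorem isQuasiRegular_map (e : L ≃ₗ⁅A⁆ L) {a : L} (ha : IsQuasiRegular A L a) :
    IsQuasiRegular A L (e a) := fun p => by
  have h : fibreEquiv p.asIdeal.ResidueField e ((1 : p.asIdeal.ResidueField) ⊗ₜ[A] a) =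
      (1 : p.asIdeal.ResidueField) ⊗ₜ[A] e a := rfl
  rw [← h, isRegular_equiv]
  exact ha p

theorem ad_pow_map (e : L ≃ₗ⁅A⁆ L) (a : L) (n : ℕ) (y : L) :
    ((ad A L (e a)) ^ n) (e y) = e (((ad A L a) ^ n) y) := by
  induction n generalizing y with
  | zero => rfl
  | succ n ih => rw [pow_succ, pow_succ, Module.End.mul_apply, Module.End.mul_apply, ← ih]; simp [LieEquiv.map_lie]

theorem map_engel (e : L ≃ₗ⁅A⁆ L) (a : L) : (engel A a).map e.toLieHom = engel A (e a) := by
  apply toSubmodule_injective
  ext w
  constructor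
  · rintro ⟨y, hy, rfl⟩
    obtain ⟨n, hn⟩ := (mem_engel_iff A a y).1 hy
    exact (mem_engel_iff A (e a) _).2 ⟨n, (ad_pow_map e a n y).trans (by rw [hn]; exact e.toLinearEquiv.map_zero)⟩
  · intro hw
    obtain ⟨n, hn⟩ := (mem_engel_iff A (e a) w).1 hw
    refine ⟨e.symm w, (mem_engel_iff A a _).2 ⟨n, e.toLinearEquiv.injective ?_⟩, e.apply_symm_apply w⟩
    have h := ad_pow_map e a n (e.symm w)
    rw [e.apply_symm_apply] at h
    exact (h.symm.trans hn).trans e.toLinearEquiv.map_zero.symm

end Auto

end GrothLib.CartanRel
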